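import Cfsg.Agent.Lib.LieOrderBound.Exceptional
import Cfsg.Agent.S1066
import Cfsg.Agent.S1067
import Cfsg.Prelude.Def_LieTypeChar

/-!
The bounds for every group of Lie type, given the order of the large Ree groups.
-/

set_option autoImplicit false

namespace CfsgLib.LieOrderBound

variable {p : ℕ} {G : Type*} [Group G]

theorem twistedE6D4 (hp : p.Prime) (hG : Cfsg.IsTwistedE6D4Char p G) :
    BoundOne p (Nat.card G) ∧ BoundTwo p (Nat.card G) := by
  obtain ⟨K, hK, hFin, hchar, q, hq, ⟨hcard, ⟨e⟩⟩ | ⟨hcard, ⟨e⟩⟩⟩ := hG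
  · obtain ⟨f, hf, rfl⟩ := exists_root (p := p) two_ne_zero hcard
    rw [Nat.card_congr e.toEquiv]
    exact twistedE6_bound hp hf (Cfsg.Agent.S1066.result hq hcard)
  · obtain ⟨f, hf, rfl⟩ := exists_root (p := p) three_ne_zero hcard
    rw [Nat.card_congr e.toEquiv]
    exact twistedD4_bound hp hf (Cfsg.Agent.S1067.result hq hcard)

/-- The order bounds, from a proof of the order formula of the large Ree groups. -/
theorem all (hF4 : ∀ (K : Type) (_ : Field K) (_ : Fintype K) (m : ℕ), Fintype.card K = 2 ^ (2 * m + 1) →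
      Nat.card ↥(Cfsg.Lie.twistedF4 K (2 ^ m)) =
        (2 ^ (2 * m + 1)) ^ 12 * (2 ^ (2 * m + 1) - 1) * ((2 ^ (2 * m + 1)) ^ 3 + 1) *
          ((2 ^ (2 * m + 1)) ^ 4 - 1) * ((2 ^ (2 * m + 1)) ^ 6 + 1))
    (hp : p.Prime) (hG : Cfsg.IsLieTypeChar p G) :
    BoundOne p (Nat.card G) ∧
      ((¬ ∃ (F : Type) (_ : Field F) (_ : Fintype F), Fintype.card F = p ^ (Nat.card G).factorization p ∧
          Nonempty (G ≃* Matrix.ProjectiveSpecialLinearGroup (Fin 2) F)) → BoundTwo p (Nat.card G)) := by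
  rcases hG with h | h | h | h | h | h | h | h | ⟨rfl, h⟩ | ⟨rfl, h⟩ | ⟨rfl, h⟩
  · exact psl hp h
  · exact ⟨(psp hp h).1, fun _ => (psp hp h).2⟩
  · exact ⟨(psu hp h).1, fun _ => (psu hp h).2⟩
  · exact ⟨(omegaOdd hp h).1, fun _ => (omegaOdd hp h).2⟩
  · exact ⟨(omegaPlus hp h).1, fun _ => (omegaPlus hp h).2⟩
  · exact ⟨(omegaMinus hp h).1, fun _ => (omegaMinus hp h).2⟩
  · exact ⟨(chev hp h).1, fun _ => (chev hp h).2⟩
  · exact ⟨(twistedE6D4 hp h).1, fun _ => (twistedE6D4 hp h).2⟩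
  · exact ⟨(suzuki h).1, fun _ => (suzuki h).2⟩
  · obtain ⟨K, hK, hFin, m, -, hcard, ⟨e⟩⟩ := h
    have h' := twistedF4_bound (f := 2 * m + 1) (by omega) (hF4 K hK hFin m hcard)
    rw [Nat.card_congr e.toEquiv]
    exact ⟨h'.1, fun _ => h'.2⟩
  · exact ⟨(ree h).1, fun _ => (ree h).2⟩

end CfsgLib.LieOrderBound
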