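import Cfsg.Prelude.Def_LieTypeChar
import Mathlib

/-!
The arithmetic behind "the order is below the cube of the Sylow `p`-part": order formulas of the
shape `d · |G| = q ^ N · M` with `p` prime to `d` and `M`, and `M` below a power of `q`.
-/

set_option autoImplicit false

namespace CfsgLib.LieOrderBound

/-- The conclusion for one order: `c` is below the cube of the `p`-part. -/
def BoundOne (p c : ℕ) : Prop := c < p ^ (3 * c.factorization p)

/-- The sharper conclusion: the cube of `c` is below the eighth power of the `p`-part. -/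
def BoundTwo (p c : ℕ) : Prop := c ^ 3 < p ^ (8 * c.factorization p)

theorem factorization_eq {p f N M d c : ℕ} (hp : p.Prime) (hd : ¬ p ∣ d) (hM : ¬ p ∣ M)
    (h : d * c = (p ^ f) ^ N * M) : c.factorization p = f * N := by
  have hd0 : d ≠ 0 := fun e => hd (e ▸ dvd_zero p)
  have hM0 : M ≠ 0 := fun e => hM (e ▸ dvd_zero p)
  have hq0 : (p ^ f) ^ N ≠ 0 := pow_ne_zero _ (pow_ne_zero _ hp.ne_zero)
  have hc0 : c ≠ 0 := fun e => by
    rw [e, mul_zero] at h
    exact (mul_ne_zero hq0 hM0) h.symm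
  have h1 : (d * c).factorization p = ((p ^ f) ^ N * M).factorization p := by rw [h]
  rw [Nat.factorization_mul hd0 hc0, Nat.factorization_mul hq0 hM0, Finsupp.add_apply, Finsupp.add_apply,
    Nat.factorization_eq_zero_of_not_dvd hd, Nat.factorization_eq_zero_of_not_dvd hM, ← pow_mul,
    hp.factorization_pow, Finsupp.single_eq_same, zero_add, add_zero] at h1
  exact h1

theorem le_of_eq_mul {p f N M d c : ℕ} (hd : ¬ p ∣ d) (h : d * c = (p ^ f) ^ N * M) :
    c ≤ (p ^ f) ^ N * M := by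
  rw [← h]
  exact Nat.le_mul_of_pos_left c (Nat.pos_of_ne_zero fun e => hd (e ▸ dvd_zero p))

theorem bound_one {p f N M d c e : ℕ} (hp : p.Prime) (hd : ¬ p ∣ d) (hM : ¬ p ∣ M)
    (h : d * c = (p ^ f) ^ N * M) (hlt : M < (p ^ f) ^ e) (he : e ≤ 2 * N) : BoundOne p c := by
  unfold BoundOne
  rw [factorization_eq hp hd hM h]
  have hq : 1 ≤ p ^ f := Nat.one_le_pow _ _ hp.pos
  calc c ≤ (p ^ f) ^ N * M := le_of_eq_mul hd h
    _ < (p ^ f) ^ N * (p ^ f) ^ e := Nat.mul_lt_mul_of_pos_left hlt (pow_pos hq _)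
    _ ≤ (p ^ f) ^ N * (p ^ f) ^ (2 * N) := Nat.mul_le_mul_left _ (Nat.pow_le_pow_right hq he)
    _ = p ^ (3 * (f * N)) := by rw [← pow_add, ← pow_mul]; congr 1; ring

theorem bound_two {p f N M d c e : ℕ} (hp : p.Prime) (hd : ¬ p ∣ d) (hM : ¬ p ∣ M)
    (h : d * c = (p ^ f) ^ N * M) (hlt : M < (p ^ f) ^ e) (he : 3 * e ≤ 5 * N) : BoundTwo p c := by
  unfold BoundTwo
  rw [factorization_eq hp hd hM h]
  have hq : 1 ≤ p ^ f := Nat.one_le_pow _ _ hp.pos
  calc c ^ 3 ≤ ((p ^ f) ^ N * M) ^ 3 := Nat.pow_le_pow_left (le_of_eq_mul hd h) 3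
    _ < ((p ^ f) ^ N * (p ^ f) ^ e) ^ 3 :=
        Nat.pow_lt_pow_left (Nat.mul_lt_mul_of_pos_left hlt (pow_pos hq _)) (by norm_num)
    _ = (p ^ f) ^ (3 * N + 3 * e) := by rw [← pow_add, ← pow_mul]; congr 1; ring
    _ ≤ (p ^ f) ^ (8 * N) := Nat.pow_le_pow_right hq (by omega)
    _ = p ^ (8 * (f * N)) := by rw [← pow_mul]; congr 1; ring

theorem both {p f N M d c e : ℕ} (hp : p.Prime) (hd : ¬ p ∣ d) (hM : ¬ p ∣ M)
    (h : d * c = (p ^ f) ^ N * M) (hlt : M < (p ^ f) ^ e) (he : 3 * e ≤ 5 * N) :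
    BoundOne p c ∧ BoundTwo p c :=
  ⟨bound_one hp hd hM h hlt (by omega), bound_two hp hd hM h hlt he⟩

section
variable {p q : ℕ}

theorem not_dvd_pow_sub_one (hp : p.Prime) (hpq : p ∣ q) {i : ℕ} (hi : i ≠ 0) (hq : 1 ≤ q) :
    ¬ p ∣ q ^ i - 1 := by
  intro h
  have h1 : p ∣ q ^ i := hpq.trans (dvd_pow_self q hi)
  have : p ∣ q ^ i - (q ^ i - 1) := Nat.dvd_sub h1 h
  rw [Nat.sub_sub_self (Nat.one_le_pow _ _ hq)] at this
  exact hp.one_lt.ne' (Nat.dvd_one.mp this)

theorem not_dvd_pow_add_one (hp : p.Prime) (hpq : p ∣ q) {i : ℕ} (hi : i ≠ 0) : ¬ p ∣ q ^ i + 1 := by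
  intro h
  exact hp.one_lt.ne' (Nat.dvd_one.mp ((Nat.dvd_add_right (hpq.trans (dvd_pow_self q hi))).mp h))

theorem pair_lt (hq : 2 ≤ q) {a b : ℕ} (hab : a < b) : (q ^ a - 1) * (q ^ b + 1) < q ^ (a + b) := by
  have hA : 1 ≤ q ^ a := Nat.one_le_pow _ _ (by omega)
  have hB : q ^ a < q ^ b := Nat.pow_lt_pow_right (by omega) hab
  obtain ⟨A, hA'⟩ : ∃ A, q ^ a = A + 1 := ⟨q ^ a - 1, by omega⟩
  rw [pow_add, hA', Nat.add_sub_cancel]
  nlinarith

theorem not_dvd_prod_even (hp : p.Prime) (hpq : p ∣ q) (hq : 1 ≤ q) (m : ℕ) :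
    ¬ p ∣ ∏ i ∈ Finset.range m, (q ^ (2 * (i + 1)) - 1) :=
  (Prime.not_dvd_finsetProd hp.prime fun i _ => not_dvd_pow_sub_one hp hpq (by omega) hq)

theorem prod_even_le (hq : 1 ≤ q) (m : ℕ) :
    ∏ i ∈ Finset.range m, (q ^ (2 * (i + 1)) - 1) ≤ q ^ (m * (m + 1)) := by
  induction m with
  | zero => simp
  | succ m ih =>
    rw [Finset.prod_range_succ, show (m + 1) * (m + 1 + 1) = m * (m + 1) + 2 * (m + 1) by ring, pow_add]
    exact Nat.mul_le_mul ih (Nat.sub_le _ _)

theorem prod_even_lt (hq : 2 ≤ q) {m : ℕ} (hm : 1 ≤ m) :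
    ∏ i ∈ Finset.range m, (q ^ (2 * (i + 1)) - 1) < q ^ (m * (m + 1)) := by
  obtain ⟨k, rfl⟩ : ∃ k, m = k + 1 := ⟨m - 1, by omega⟩
  rw [Finset.prod_range_succ, show (k + 1) * (k + 1 + 1) = k * (k + 1) + 2 * (k + 1) by ring, pow_add]
  have hB : 1 ≤ q ^ (2 * (k + 1)) := Nat.one_le_pow _ _ (by omega)
  exact lt_of_le_of_lt (Nat.mul_le_mul_right _ (prod_even_le (by omega) k))
    (Nat.mul_lt_mul_of_pos_left (by omega) (pow_pos (by omega) _))

/-- The product in the order of a special linear group, with the scalars split off. -/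
theorem linear_prod (hp : p.Prime) (hpq : p ∣ q) (hq : 2 ≤ q) : ∀ n, 1 ≤ n →
    ∃ N e M, 2 * N + n = n * n ∧ e + 1 = N + n ∧ ¬ p ∣ M ∧ M ≤ q ^ e ∧ (2 ≤ n → M < q ^ e) ∧
      ∏ i : Fin n, (q ^ n - q ^ (i : ℕ)) = (q - 1) * (q ^ N * M) := by
  intro n hn
  induction n, hn using Nat.le_induction with
  | base =>
    exact ⟨0, 0, 1, rfl, rfl, hp.not_dvd_one, by simp, fun h => absurd h (by norm_num), by simp⟩
  | succ n hn ih =>
    obtain ⟨N, e, M, hN, he, hM, hle, -, hprod⟩ := ih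
    refine ⟨N + n, e + (n + 1), (q ^ (n + 1) - 1) * M, by linarith, by omega,
      fun h => ?_, ?_, fun _ => ?_, ?_⟩
    · rcases hp.prime.dvd_mul.mp h with h | h
      · exact not_dvd_pow_sub_one hp hpq (by omega) (by omega) h
      · exact hM h
    · rw [show e + (n + 1) = (n + 1) + e by ring, pow_add q (n + 1) e]
      exact Nat.mul_le_mul (Nat.sub_le _ _) hle
    · rw [show e + (n + 1) = (n + 1) + e by ring, pow_add q (n + 1) e]
      have : 1 ≤ q ^ (n + 1) := Nat.one_le_pow _ _ (by omega)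
      exact lt_of_le_of_lt (Nat.mul_le_mul_left _ hle)
        (Nat.mul_lt_mul_of_pos_right (by omega) (pow_pos (by omega) _))
    · rw [Fin.prod_univ_succ]
      have hstep : ∀ i : Fin n, q ^ (n + 1) - q ^ ((i.succ : Fin (n + 1)) : ℕ) =
          q * (q ^ n - q ^ (i : ℕ)) := fun i => by
        rw [Fin.val_succ, pow_succ', pow_succ', ← Nat.mul_sub]
      simp only [hstep, Finset.prod_mul_distrib, Finset.prod_const, Finset.card_univ, Fintype.card_fin,
        hprod, Fin.val_zero, pow_zero]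
      ring

/-- The product in the order of a special unitary group, with the first factor split off; `N` is
the exponent of the power of `q` in the order. -/
theorem unitary_prod (hp : p.Prime) (hpq : p ∣ q) (hq : 2 ≤ q) : ∀ n, 2 ≤ n →
    ∃ N e M, 2 * N + n = n * n ∧ e + 1 = N + n ∧ ¬ p ∣ M ∧ M < q ^ e ∧
      (Even n → M * (q ^ (n + 1) + 1) < q ^ (e + (n + 1))) ∧
      ∏ i ∈ Finset.range n, (if Even i then q ^ (i + 1) + 1 else q ^ (i + 1) - 1) = (q + 1) * M := by
  intro n hn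
  induction n, hn using Nat.le_induction with
  | base =>
    refine ⟨1, 2, q ^ 2 - 1, rfl, rfl, not_dvd_pow_sub_one hp hpq two_ne_zero (by omega),
      Nat.sub_lt (by positivity) one_pos, fun _ => pair_lt hq (by norm_num), ?_⟩
    simp [Finset.prod_range_succ, Nat.even_iff]
  | succ n hn ih =>
    obtain ⟨N, e, M, hN, he, hM, hlt, heven, hprod⟩ := ih
    rcases Nat.even_or_odd n with hev | hodd
    · refine ⟨N + n, e + (n + 1), M * (q ^ (n + 1) + 1), by linarith, by omega, fun h => ?_,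
        heven hev, fun h => absurd hev (Nat.even_add_one.mp h), ?_⟩
      · rcases hp.prime.dvd_mul.mp h with h | h
        · exact hM h
        · exact not_dvd_pow_add_one hp hpq (by omega) h
      · rw [Finset.prod_range_succ, hprod, if_pos hev, mul_assoc]
    · have hne : ¬ Even n := Nat.not_even_iff_odd.mpr hodd
      refine ⟨N + n, e + (n + 1), M * (q ^ (n + 1) - 1), by linarith, by omega, fun h => ?_,
        ?_, fun _ => ?_, ?_⟩
      · rcases hp.prime.dvd_mul.mp h with h | h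
        · exact hM h
        · exact not_dvd_pow_sub_one hp hpq (by omega) (by omega) h
      · rw [pow_add q e (n + 1)]
        exact lt_of_le_of_lt (Nat.mul_le_mul_left _ (Nat.sub_le _ _))
          (Nat.mul_lt_mul_of_pos_right hlt (pow_pos (by omega) _))
      · rw [mul_assoc, show e + (n + 1) + (n + 1 + 1) = e + ((n + 1) + (n + 1 + 1)) by ring, pow_add q e]
        exact Nat.mul_lt_mul'' hlt (pair_lt hq (by omega))
      · rw [Finset.prod_range_succ, hprod, if_neg hne, mul_assoc]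

end

end CfsgLib.LieOrderBound
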