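import Cfsg.Agent.Lib.LieOrderBound.Basic
import Cfsg.Agent.S0243
import Cfsg.Agent.S0245
import Cfsg.Agent.S0246
import Cfsg.Agent.S0280
import Cfsg.Agent.S0292
import Cfsg.Agent.S0293
import Cfsg.Agent.S0294

/-!
The bounds for the classical families.
-/

set_option autoImplicit false

namespace CfsgLib.LieOrderBound

variable {p : ℕ} {G : Type*} [Group G]

theorem exists_exponent {F : Type*} [Field F] [Fintype F] [CharP F p] :
    ∃ f : ℕ, 0 < f ∧ p.Prime ∧ Fintype.card F = p ^ f := by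
  obtain ⟨n, hp, hn⟩ := FiniteField.card F p
  exact ⟨n, n.pos, hp, hn⟩

theorem exists_root {F : Type*} [Field F] [Fintype F] [CharP F p] {q k : ℕ} (hk : k ≠ 0)
    (hF : Fintype.card F = q ^ k) : ∃ f : ℕ, 0 < f ∧ q = p ^ f := by
  obtain ⟨n, hn, hp, hcard⟩ := exists_exponent (F := F) (p := p)
  obtain ⟨f, -, hf⟩ := (Nat.dvd_prime_pow hp).mp (hcard ▸ hF ▸ dvd_pow_self q hk)
  refine ⟨f, Nat.pos_of_ne_zero fun h => ?_, hf⟩
  have h1 := Fintype.one_lt_card (α := F)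
  rw [hF, hf, h, pow_zero, one_pow] at h1
  exact lt_irrefl _ h1

theorem two_le_pow (hp : p.Prime) {f : ℕ} (hf : 0 < f) : 2 ≤ p ^ f :=
  hp.two_le.trans (Nat.le_self_pow hf.ne' p)

theorem gcd_not_dvd {r : ℕ} (n : ℕ) (h : ¬ p ∣ r) : ¬ p ∣ Nat.gcd n r :=
  fun hh => h (hh.trans (Nat.gcd_dvd_right _ _))

theorem psl (hp : p.Prime) (hG : Cfsg.IsPSLChar p G) : BoundOne p (Nat.card G) ∧
    ((¬ ∃ (F : Type) (_ : Field F) (_ : Fintype F), Fintype.card F = p ^ (Nat.card G).factorization p ∧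
      Nonempty (G ≃* Matrix.ProjectiveSpecialLinearGroup (Fin 2) F)) → BoundTwo p (Nat.card G)) := by
  obtain ⟨F, hF, hFin, hchar, n, hn, -, ⟨e⟩⟩ := hG
  obtain ⟨f, hf, -, hcard⟩ := exists_exponent (F := F) (p := p)
  have hq2 := two_le_pow hp hf
  have hpq : p ∣ p ^ f := dvd_pow_self p hf.ne'
  obtain ⟨N, E, M, hN, he, hM, hle, hlt, hprod⟩ := linear_prod hp hpq hq2 n (by omega)
  have h := Cfsg.Agent.S0243.result hcard n hn
  rw [hprod, mul_left_comm] at h
  have h := Nat.eq_of_mul_eq_mul_left (by omega) h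
  rw [← Nat.card_congr e.toEquiv] at h
  have hd : ¬ p ∣ Nat.gcd n (p ^ f - 1) := gcd_not_dvd n (by
    simpa using not_dvd_pow_sub_one hp hpq one_ne_zero (by omega))
  refine ⟨bound_one hp hd hM h (hlt hn) (by nlinarith), fun hne => ?_⟩
  rcases eq_or_lt_of_le hn with rfl | h3
  · refine absurd ⟨F, hF, hFin, ?_, ⟨e⟩⟩ hne
    rw [factorization_eq hp hd hM h, hcard]
    obtain rfl : N = 1 := by omega
    rw [mul_one]
  · exact bound_two hp hd hM h (hlt hn) (by nlinarith)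

theorem psp (hp : p.Prime) (hG : Cfsg.IsPSpChar p G) :
    BoundOne p (Nat.card G) ∧ BoundTwo p (Nat.card G) := by
  obtain ⟨F, hF, hFin, hchar, m, hm, -, ⟨e⟩⟩ := hG
  obtain ⟨f, hf, -, hcard⟩ := exists_exponent (F := F) (p := p)
  have hq2 := two_le_pow hp hf
  have hpq : p ∣ p ^ f := dvd_pow_self p hf.ne'
  have h : Nat.gcd 2 (p ^ f - 1) * Nat.card G =
      (p ^ f) ^ (m ^ 2) * ∏ i ∈ Finset.range m, ((p ^ f) ^ (2 * (i + 1)) - 1) := by
    rw [Nat.card_congr e.toEquiv, ← Cfsg.Agent.S0245.result hcard m,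
      ← Cfsg.Agent.S0246.result hcard m (by omega), mul_comm]
    exact (Subgroup.card_eq_card_quotient_mul_card_subgroup _).symm
  exact both hp (gcd_not_dvd 2 (by simpa using not_dvd_pow_sub_one hp hpq one_ne_zero (by omega)))
    (not_dvd_prod_even hp hpq (by omega) m) h (prod_even_lt hq2 (by omega)) (by nlinarith)

theorem psu (hp : p.Prime) (hG : Cfsg.IsPSUChar p G) :
    BoundOne p (Nat.card G) ∧ BoundTwo p (Nat.card G) := by
  obtain ⟨F, hF, hFin, hchar, n, q, hcard, hn, -, ⟨e⟩⟩ := hG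
  obtain ⟨f, hf, rfl⟩ := exists_root (F := F) (p := p) two_ne_zero hcard
  have hq2 := two_le_pow hp hf
  have hpq : p ∣ p ^ f := dvd_pow_self p hf.ne'
  obtain ⟨N, E, M, hN, he, hM, hlt, -, hprod⟩ := unitary_prod hp hpq hq2 n (by omega)
  have h := Cfsg.Agent.S0280.result hcard n (by omega)
  have hN' : n * (n - 1) / 2 = N := by
    have : n * (n - 1) = 2 * N := by
      rw [Nat.mul_sub, mul_one]; omega
    omega
  rw [hprod, hN', mul_left_comm, mul_left_comm ((p ^ f) ^ N)] at h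
  have h := Nat.eq_of_mul_eq_mul_left (by omega) h
  rw [← Nat.card_congr e.toEquiv] at h
  exact both hp (gcd_not_dvd n (by simpa using not_dvd_pow_add_one hp hpq one_ne_zero)) hM h hlt
    (by nlinarith)

theorem omegaOdd (hp : p.Prime) (hG : Cfsg.IsPOmegaOddChar p G) :
    BoundOne p (Nat.card G) ∧ BoundTwo p (Nat.card G) := by
  obtain ⟨F, hF, hFin, hchar, m, hm, hodd, ⟨e⟩⟩ := hG
  obtain ⟨f, hf, -, hcard⟩ := exists_exponent (F := F) (p := p)
  have hq2 := two_le_pow hp hf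
  have hpq : p ∣ p ^ f := dvd_pow_self p hf.ne'
  have h := Cfsg.Agent.S0292.result hcard (hcard ▸ hodd) m hm
  rw [← Nat.card_congr e.toEquiv] at h
  have hd : ¬ p ∣ 2 := by
    intro h2
    obtain rfl := (Nat.prime_dvd_prime_iff_eq hp Nat.prime_two).mp h2
    exact Nat.not_even_iff_odd.mpr (hcard ▸ hodd) (even_iff_two_dvd.mpr hpq)
  exact both hp hd (not_dvd_prod_even hp hpq (by omega) m) h (prod_even_lt hq2 (by omega))
    (by nlinarith)

theorem omegaPlus (hp : p.Prime) (hG : Cfsg.IsPOmegaPlusChar p G) :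
    BoundOne p (Nat.card G) ∧ BoundTwo p (Nat.card G) := by
  obtain ⟨F, hF, hFin, hchar, m, hm, ⟨e⟩⟩ := hG
  obtain ⟨f, hf, -, hcard⟩ := exists_exponent (F := F) (p := p)
  have hq2 := two_le_pow hp hf
  have hpq : p ∣ p ^ f := dvd_pow_self p hf.ne'
  have h := Cfsg.Agent.S0293.result hcard m hm
  rw [← Nat.card_congr e.toEquiv, mul_assoc ((p ^ f) ^ _)] at h
  have h1 := not_dvd_pow_sub_one hp hpq (show m ≠ 0 by omega) (by omega)
  refine both hp (gcd_not_dvd 4 h1) ?_ h (e := m + (m - 1) * (m - 1 + 1)) ?_ ?_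
  · exact fun hd => (hp.prime.dvd_mul.mp hd).elim h1 (not_dvd_prod_even hp hpq (by omega) _)
  · rw [pow_add]
    exact lt_of_le_of_lt (Nat.mul_le_mul_left _ (prod_even_le (by omega) _))
      (Nat.mul_lt_mul_of_pos_right (Nat.sub_lt (by positivity) one_pos) (by positivity))
  · obtain ⟨k, rfl⟩ : ∃ k, m = k + 1 := ⟨m - 1, by omega⟩
    simp only [Nat.add_sub_cancel]
    nlinarith

theorem omegaMinus (hp : p.Prime) (hG : Cfsg.IsPOmegaMinusChar p G) :
    BoundOne p (Nat.card G) ∧ BoundTwo p (Nat.card G) := by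
  obtain ⟨F, hF, hFin, hchar, m, a, b, hm, hab, ⟨e⟩⟩ := hG
  obtain ⟨f, hf, -, hcard⟩ := exists_exponent (F := F) (p := p)
  have hq2 := two_le_pow hp hf
  have hpq : p ∣ p ^ f := dvd_pow_self p hf.ne'
  have h := Cfsg.Agent.S0294.result hcard m hm a b hab
  rw [← Nat.card_congr e.toEquiv, mul_assoc ((p ^ f) ^ _)] at h
  have h1 := not_dvd_pow_add_one hp hpq (show m ≠ 0 by omega)
  refine both hp (gcd_not_dvd 4 h1) ?_ h (e := (m - 1) * (m - 1 + 1) + m) ?_ ?_
  · exact fun hd => (hp.prime.dvd_mul.mp hd).elim h1 (not_dvd_prod_even hp hpq (by omega) _)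
  · obtain ⟨k, rfl⟩ : ∃ k, m = k + 2 := ⟨m - 2, by omega⟩
    rw [show k + 2 - 1 = k + 1 by omega, Finset.prod_range_succ']
    have hrest : ∏ i ∈ Finset.range k, ((p ^ f) ^ (2 * (i + 1 + 1)) - 1) ≤
        (p ^ f) ^ (k * (k + 1) + 2 * k) := by
      clear hm h h1 e
      induction k with
      | zero => simp
      | succ k ih =>
        rw [Finset.prod_range_succ, show (k + 1) * (k + 1 + 1) + 2 * (k + 1) =
          k * (k + 1) + 2 * k + 2 * (k + 1 + 1) by ring, pow_add]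
        exact Nat.mul_le_mul ih (Nat.sub_le _ _)
    have hpair := pair_lt hq2 (show 2 < k + 2 by omega)
    calc _ = ((p ^ f) ^ (2 * (0 + 1)) - 1) * ((p ^ f) ^ (k + 2) + 1) *
          ∏ i ∈ Finset.range k, ((p ^ f) ^ (2 * (i + 1 + 1)) - 1) := by ring
      _ ≤ ((p ^ f) ^ 2 - 1) * ((p ^ f) ^ (k + 2) + 1) * (p ^ f) ^ (k * (k + 1) + 2 * k) :=
          Nat.mul_le_mul_left _ hrest
      _ < (p ^ f) ^ (2 + (k + 2)) * (p ^ f) ^ (k * (k + 1) + 2 * k) :=
          Nat.mul_lt_mul_of_pos_right hpair (by positivity)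
      _ = _ := by rw [← pow_add]; congr 1; ring
  · obtain ⟨k, rfl⟩ : ∃ k, m = k + 1 := ⟨m - 1, by omega⟩
    simp only [Nat.add_sub_cancel]
    nlinarith

end CfsgLib.LieOrderBound
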