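import Cfsg.Agent.Lib.LieOrderBound.Classical
import Cfsg.Agent.S1059
import Cfsg.Agent.S1062
import Cfsg.Agent.S1063
import Cfsg.Agent.S1064
import Cfsg.Agent.S1065
import Cfsg.Agent.S1069
import Cfsg.Agent.S1163

/-!
The bounds for the exceptional and twisted families.
-/

set_option autoImplicit false

namespace CfsgLib.LieOrderBound

variable {p : ℕ} {G : Type*} [Group G]

theorem minus_spec {q : ℕ} (hp : p.Prime) (hpq : p ∣ q) (hq : 2 ≤ q) :
    ∀ L : List ℕ, (∀ d ∈ L, d ≠ 0) → (¬ p ∣ (L.map fun d => q ^ d - 1).prod) ∧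
      (L.map fun d => q ^ d - 1).prod ≤ q ^ L.sum := by
  intro L hL
  induction L with
  | nil => simp [hp.not_dvd_one]
  | cons d L ih =>
    obtain ⟨h1, h2⟩ := ih fun x hx => hL x (List.mem_cons_of_mem _ hx)
    simp only [List.map_cons, List.prod_cons, List.sum_cons, pow_add]
    exact ⟨fun h => (hp.prime.dvd_mul.mp h).elim
      (not_dvd_pow_sub_one hp hpq (hL d List.mem_cons_self) (by omega)) h1,
      Nat.mul_le_mul (Nat.sub_le _ _) h2⟩

/-- An order with only factors `q ^ d - 1`. -/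
theorem both_minus {f N d₀ c k : ℕ} {L : List ℕ} (hp : p.Prime) (hf : 0 < f) (hd : ¬ p ∣ d₀)
    (h : d₀ * c = (p ^ f) ^ N * ((k :: L).map fun d => (p ^ f) ^ d - 1).prod)
    (hL : ∀ d ∈ k :: L, d ≠ 0) (he : 3 * (k + L.sum) ≤ 5 * N) : BoundOne p c ∧ BoundTwo p c := by
  have hq := two_le_pow hp hf
  have hpq : p ∣ p ^ f := dvd_pow_self p hf.ne'
  refine both hp hd (minus_spec hp hpq hq _ hL).1 h ?_ he
  rw [List.map_cons, List.prod_cons, pow_add]
  exact lt_of_le_of_lt (Nat.mul_le_mul_left _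
      (minus_spec hp hpq hq L fun x hx => hL x (List.mem_cons_of_mem _ hx)).2)
    (Nat.mul_lt_mul_of_pos_right (Nat.sub_lt (by positivity) one_pos) (by positivity))

theorem chev (hp : p.Prime) (hG : Cfsg.IsExceptionalChevChar p G) :
    BoundOne p (Nat.card G) ∧ BoundTwo p (Nat.card G) := by
  obtain ⟨F, hF, hFin, hchar, hor⟩ := hG
  obtain ⟨f, hf, -, hcard⟩ := exists_exponent (F := F) (p := p)
  have hq2 := two_le_pow hp hf
  have hpq : p ∣ p ^ f := dvd_pow_self p hf.ne'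
  have h1 : ¬ p ∣ p ^ f - 1 := by simpa using not_dvd_pow_sub_one hp hpq one_ne_zero (by omega)
  rcases hor with ⟨-, ⟨e⟩⟩ | ⟨⟨e⟩⟩ | ⟨⟨e⟩⟩ | ⟨⟨e⟩⟩ | ⟨⟨e⟩⟩ <;> rw [Nat.card_congr e.toEquiv]
  · refine both_minus (N := 6) (k := 2) (L := [6]) hp hf hp.not_dvd_one ?_ (by simp) (by simp)
    rw [one_mul, Cfsg.Agent.S1059.result hcard]; simp [mul_assoc]
  · refine both_minus (N := 24) (k := 2) (L := [6, 8, 12]) hp hf hp.not_dvd_one ?_ (by simp) (by simp)
    rw [one_mul, Cfsg.Agent.S1062.result hcard]; simp [mul_assoc]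
  · refine both_minus (N := 36) (k := 2) (L := [5, 6, 8, 9, 12]) hp hf (gcd_not_dvd 3 h1) ?_
      (by simp) (by simp)
    rw [Cfsg.Agent.S1063.result hcard]; simp [mul_assoc]
  · refine both_minus (N := 63) (k := 2) (L := [6, 8, 10, 12, 14, 18]) hp hf (gcd_not_dvd 2 h1) ?_
      (by simp) (by simp)
    rw [Cfsg.Agent.S1064.result hcard]; simp [mul_assoc]
  · refine both_minus (N := 120) (k := 2) (L := [8, 12, 14, 18, 20, 24, 30]) hp hf hp.not_dvd_one ?_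
      (by simp) (by simp)
    rw [one_mul, Cfsg.Agent.S1065.result hcard]; simp [mul_assoc]

/-- The bounds for `²E₆`, from its order. -/
theorem twistedE6_bound {f c : ℕ} (hp : p.Prime) (hf : 0 < f)
    (h : Nat.gcd 3 (p ^ f + 1) * c = (p ^ f) ^ 36 * ((p ^ f) ^ 2 - 1) * ((p ^ f) ^ 5 + 1) *
      ((p ^ f) ^ 6 - 1) * ((p ^ f) ^ 8 - 1) * ((p ^ f) ^ 9 + 1) * ((p ^ f) ^ 12 - 1)) :
    BoundOne p c ∧ BoundTwo p c := by
  have hq := two_le_pow hp hf
  have hpq : p ∣ p ^ f := dvd_pow_self p hf.ne'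
  have hd : ¬ p ∣ Nat.gcd 3 (p ^ f + 1) :=
    gcd_not_dvd 3 (by simpa using not_dvd_pow_add_one hp hpq one_ne_zero)
  refine both hp hd (M := ((p ^ f) ^ 2 - 1) * ((p ^ f) ^ 5 + 1) * (((p ^ f) ^ 6 - 1) * ((p ^ f) ^ 9 + 1)) *
      (((p ^ f) ^ 8 - 1) * ((p ^ f) ^ 12 - 1))) (e := 42) (N := 36) (f := f) ?_ (by rw [h]; ring) ?_ (by norm_num)
  · intro hh
    simp only [hp.prime.dvd_mul] at hh
    rcases hh with (((h | h) | (h | h)) | (h | h))
    all_goals first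
      | exact not_dvd_pow_sub_one hp hpq (by norm_num) (by omega) h
      | exact not_dvd_pow_add_one hp hpq (by norm_num) h
  · calc _ ≤ ((p ^ f) ^ 2 - 1) * ((p ^ f) ^ 5 + 1) * (((p ^ f) ^ 6 - 1) * ((p ^ f) ^ 9 + 1)) *
          ((p ^ f) ^ 8 * (p ^ f) ^ 12) :=
        Nat.mul_le_mul_left _ (Nat.mul_le_mul (Nat.sub_le _ _) (Nat.sub_le _ _))
      _ < (p ^ f) ^ (2 + 5) * (p ^ f) ^ (6 + 9) * ((p ^ f) ^ 8 * (p ^ f) ^ 12) :=
        Nat.mul_lt_mul_of_pos_right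
          (Nat.mul_lt_mul'' (pair_lt hq (by norm_num)) (pair_lt hq (by norm_num))) (by positivity)
      _ = _ := by ring

/-- The bounds for `³D₄`, from its order. -/
theorem twistedD4_bound {f c : ℕ} (hp : p.Prime) (hf : 0 < f)
    (h : c = (p ^ f) ^ 12 * ((p ^ f) ^ 2 - 1) * ((p ^ f) ^ 6 - 1) * ((p ^ f) ^ 8 + (p ^ f) ^ 4 + 1)) :
    BoundOne p c ∧ BoundTwo p c := by
  have hq := two_le_pow hp hf
  have hpq : p ∣ p ^ f := dvd_pow_self p hf.ne'
  refine both hp hp.not_dvd_one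
    (M := ((p ^ f) ^ 6 - 1) * (((p ^ f) ^ 2 - 1) * ((p ^ f) ^ 8 + (p ^ f) ^ 4 + 1))) (e := 16) (N := 12) (f := f)
    ?_ (by rw [h, one_mul]; ring) ?_ (by norm_num)
  · intro hh
    simp only [hp.prime.dvd_mul] at hh
    rcases hh with h | h | h
    · exact not_dvd_pow_sub_one hp hpq (by norm_num) (by omega) h
    · exact not_dvd_pow_sub_one hp hpq (by norm_num) (by omega) h
    · exact hp.one_lt.ne' (Nat.dvd_one.mp ((Nat.dvd_add_right
        ((hpq.trans (dvd_pow_self _ (by norm_num))).add (hpq.trans (dvd_pow_self _ (by norm_num))))).mp h))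
  · generalize p ^ f = q at hq
    have h10 : (q ^ 2 - 1) * (q ^ 8 + q ^ 4 + 1) < q ^ 10 := by
      have h4 : 4 ≤ q ^ 2 := Nat.pow_le_pow_left hq 2
      obtain ⟨A, hA⟩ : ∃ A, q ^ 2 = A + 1 := ⟨q ^ 2 - 1, by omega⟩
      rw [show q ^ 8 = (q ^ 2) ^ 4 by ring, show q ^ 4 = (q ^ 2) ^ 2 by ring,
        show q ^ 10 = (q ^ 2) ^ 5 by ring, hA, Nat.add_sub_cancel]
      nlinarith [sq_nonneg A, Nat.zero_le (A ^ 3)]
    calc _ ≤ q ^ 6 * ((q ^ 2 - 1) * (q ^ 8 + q ^ 4 + 1)) := Nat.mul_le_mul_right _ (Nat.sub_le _ _)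
      _ < q ^ 6 * q ^ 10 := Nat.mul_lt_mul_of_pos_left h10 (by positivity)
      _ = _ := by ring

theorem suzuki (hG : Cfsg.Lie.IsoSuzuki G) : BoundOne 2 (Nat.card G) ∧ BoundTwo 2 (Nat.card G) := by
  obtain ⟨F, hF, hFin, m, hm, hcard, ⟨e⟩⟩ := hG
  have h := (Cfsg.Agent.S1163.result hm hcard).1
  rw [← Nat.card_congr e.toEquiv] at h
  have hf : 0 < 2 * m + 1 := by omega
  have hq := two_le_pow Nat.prime_two hf
  have hpq : 2 ∣ 2 ^ (2 * m + 1) := dvd_pow_self 2 hf.ne'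
  refine both Nat.prime_two (Nat.prime_two.not_dvd_one)
    (M := (2 ^ (2 * m + 1) - 1) * ((2 ^ (2 * m + 1)) ^ 2 + 1)) (e := 1 + 2) (N := 2) (f := 2 * m + 1)
    ?_ (by rw [h, one_mul, mul_assoc]) ?_ (by norm_num)
  · intro hh
    rcases Nat.prime_two.prime.dvd_mul.mp hh with h | h
    · exact not_dvd_pow_sub_one Nat.prime_two hpq one_ne_zero (by omega) (by simpa using h)
    · exact not_dvd_pow_add_one Nat.prime_two hpq two_ne_zero h
  · simpa using pair_lt hq (show 1 < 2 by norm_num)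

theorem ree (hG : Cfsg.Lie.IsoRee G) : BoundOne 3 (Nat.card G) ∧ BoundTwo 3 (Nat.card G) := by
  obtain ⟨K, hK, hFin, m, hm, hcard, ⟨e⟩⟩ := hG
  have h := Cfsg.Agent.S1069.result hcard
  rw [← Nat.card_congr e.toEquiv] at h
  have hf : 0 < 2 * m + 1 := by omega
  have hq := two_le_pow Nat.prime_three hf
  have hpq : 3 ∣ 3 ^ (2 * m + 1) := dvd_pow_self 3 hf.ne'
  refine both Nat.prime_three (Nat.prime_three.not_dvd_one)
    (M := (3 ^ (2 * m + 1) - 1) * ((3 ^ (2 * m + 1)) ^ 3 + 1)) (e := 1 + 3) (N := 3) (f := 2 * m + 1)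
    ?_ (by rw [h, one_mul, mul_assoc]) ?_ (by norm_num)
  · intro hh
    rcases Nat.prime_three.prime.dvd_mul.mp hh with h | h
    · exact not_dvd_pow_sub_one Nat.prime_three hpq one_ne_zero (by omega) (by simpa using h)
    · exact not_dvd_pow_add_one Nat.prime_three hpq three_ne_zero h
  · simpa using pair_lt hq (show 1 < 3 by norm_num)

/-- The bounds for `²F₄`, from its order. -/
theorem twistedF4_bound {f c : ℕ} (hf : 0 < f)
    (h : c = (2 ^ f) ^ 12 * (2 ^ f - 1) * ((2 ^ f) ^ 3 + 1) * ((2 ^ f) ^ 4 - 1) * ((2 ^ f) ^ 6 + 1)) :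
    BoundOne 2 c ∧ BoundTwo 2 c := by
  have hq := two_le_pow Nat.prime_two hf
  have hpq : 2 ∣ 2 ^ f := dvd_pow_self 2 hf.ne'
  refine both Nat.prime_two (Nat.prime_two.not_dvd_one)
    (M := (((2 ^ f) ^ 1 - 1) * ((2 ^ f) ^ 3 + 1)) * (((2 ^ f) ^ 4 - 1) * ((2 ^ f) ^ 6 + 1)))
    (e := 1 + 3 + (4 + 6)) (N := 12) (f := f) ?_ (by rw [h, one_mul, pow_one]; ring) ?_ (by norm_num)
  · intro hh
    simp only [Nat.prime_two.prime.dvd_mul] at hh
    rcases hh with (h | h) | (h | h)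
    all_goals first
      | exact not_dvd_pow_sub_one Nat.prime_two hpq (by norm_num) (by omega) h
      | exact not_dvd_pow_add_one Nat.prime_two hpq (by norm_num) h
  · rw [pow_add _ (1 + 3)]
    exact Nat.mul_lt_mul'' (pair_lt hq (by norm_num)) (pair_lt hq (by norm_num))

end CfsgLib.LieOrderBound
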